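import Mathlib
import Cfsg.Prelude.Def_BlockRank
import Cfsg.Agent.H608.BlockRank
import Cfsg.Agent.H649.Transport
import Cfsg.Agent.Blocks.PrincipalSection
import Cfsg.Agent.H617.Pb.Defs

/-!
# Orbits on the principal block as a sum over `p`-sections

`N ≤ C` are subgroups of `Γ`, `C` normalising `N`.  The number of `C`-orbits on `Irr(B₀(N))` is the
dimension of the `C`-invariant functions in the span of `B₀(N)`; by Brauer's second and third main
theorems this space is the product, over the `C`-classes of `p`-elements `u` of `N`, of the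
`C_C(u)`-invariants in the span of the `p`-regular parts of `B₀(C_N(u))`.

* `orb_eq_sum`: the formula;
* `sum_le_orb`: the inequality for a partial system of representatives.
-/

set_option autoImplicit false
set_option linter.unusedSectionVars false

open Cfsg Cfsg.Agent.Blocks.Basic Cfsg.Agent.Blocks.Local Module
open scoped ComplexConjugate

namespace Cfsg.Agent.H208.Pb

open Cfsg.Agent.H608.BlockRank Cfsg.Agent.H617.Pb Cfsg.Agent

universe u v

/-! ### Gram matrices -/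

open scoped ComplexOrder in
theorem span_gram {ι Y : Type*} [Fintype ι] [Fintype Y] (f : ι → Y → ℂ) :
    Submodule.span ℂ (Set.range fun (y : Y) (y' : Y) => ∑ i, f i y' * conj (f i y)) =
      Submodule.span ℂ (Set.range f) := by
  classical
  apply Submodule.eq_of_le_of_finrank_eq
  · rw [Submodule.span_le]
    rintro _ ⟨y, rfl⟩
    have h1 : (fun y' => ∑ i, f i y' * conj (f i y)) = ∑ i, conj (f i y) • f i := by
      funext y'
      simp [Finset.sum_apply, mul_comm]
    change (fun y' => ∑ i, f i y' * conj (f i y)) ∈ Submodule.span ℂ (Set.range f)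
    rw [h1]
    exact Submodule.sum_mem _ fun i _ => Submodule.smul_mem _ _ (Submodule.subset_span ⟨i, rfl⟩)
  · have h1 : (Matrix.of f).rank = finrank ℂ (Submodule.span ℂ (Set.range f)) :=
      Matrix.rank_eq_finrank_span_row (Matrix.of f)
    have h2 : ((Matrix.of f).conjTranspose * Matrix.of f).rank = finrank ℂ (Submodule.span ℂ
        (Set.range fun (y : Y) (y' : Y) => ∑ i, f i y' * conj (f i y))) := by
      rw [Matrix.rank_eq_finrank_span_row]
      have h3 : (((Matrix.of f).conjTranspose * Matrix.of f).row : Y → Y → ℂ) =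
          fun (y : Y) (y' : Y) => ∑ i, f i y' * conj (f i y) := by
        funext y y'
        change ((Matrix.of f).conjTranspose * Matrix.of f) y y' = _
        rw [Matrix.mul_apply]
        exact Finset.sum_congr rfl fun i _ => mul_comm _ _
      rw [h3]
    rw [← h1, ← h2, Matrix.rank_conjTranspose_mul_self]

/-- Two families of functions with the same Gram matrix span the same space. -/
theorem span_eq_of_gram {ι κ Y : Type*} [Fintype ι] [Fintype κ] [Fintype Y]
    (f : ι → Y → ℂ) (g : κ → Y → ℂ)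
    (h : ∀ y y', ∑ i, f i y * conj (f i y') = ∑ k, g k y * conj (g k y')) :
    Submodule.span ℂ (Set.range f) = Submodule.span ℂ (Set.range g) := by
  rw [← span_gram f, ← span_gram g]
  have h1 : (fun (y : Y) (y' : Y) => ∑ i, f i y' * conj (f i y)) =
      fun (y : Y) (y' : Y) => ∑ i, g i y' * conj (g i y) := by
    funext y y'
    exact h y' y
  rw [h1]

/-- **Brauer's second and third main theorems**: the restriction of the span of the principal block of
`G` to the `p`-section of `x` is the `p`-regular part of the span of the principal block of `C_G(x)`. -/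
theorem map_secMap_eq {G : Type u} [Group G] [Finite G] {p : ℕ} {M : Ideal AlgInt}
    (hM : IsPModular p M) {x : G} (hx : ∃ k : ℕ, orderOf x = p ^ k)
    {H : Subgroup G} (hH : H = Subgroup.centralizer ({x} : Set G)) :
    (charSpan (principalBlock M G)).map (secMap p x H) =
      (charSpan (principalBlock M ↥H)).map (pReg p) := by
  classical
  have := Fact.mk hM.1
  have := Characters.Core.finite_irr (G := G)
  have := Characters.Core.finite_irr (G := H)
  have : Fintype H := Fintype.ofFinite _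
  have : Fintype (principalBlock M G) := Fintype.ofFinite _
  have : Fintype (principalBlock M ↥H) := Fintype.ofFinite _
  rw [map_charSpan_eq_span_range, map_charSpan_eq_span_range]
  refine span_eq_of_gram _ _ fun y y' => ?_
  by_cases hy : IsPRegular p y
  · by_cases hy' : IsPRegular p y'
    · have h := Blocks.CentralizerSum.sum_section hM x hx hH
        Blocks.PrincipalSection.isPBlock_principalBlock
        (Blocks.PrincipalSection.mem_principalBlock_iff_induced hM x hx hH) y y' hy hy'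
      rw [finsum_mem_eq_finite_toFinset_sum _ (Set.toFinite _),
        finsum_mem_eq_finite_toFinset_sum _ (Set.toFinite _)] at h
      simp only [secMap_of hy, secMap_of hy', pReg_of hy, pReg_of hy']
      have e1 : ∑ i : principalBlock M G, ((i : IrrCharacter G) : G → ℂ) (x * (y : G)) *
          conj (((i : IrrCharacter G) : G → ℂ) (x * (y' : G))) =
          ∑ ζ ∈ (Set.toFinite (principalBlock M G)).toFinset, (ζ : G → ℂ) (x * (y : G)) *
            conj ((ζ : G → ℂ) (x * (y' : G))) := by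
        exact (Finset.sum_subtype (Set.toFinite (principalBlock M G)).toFinset
          (fun ζ => Set.Finite.mem_toFinset _) (fun ζ : IrrCharacter G =>
            (ζ : G → ℂ) (x * (y : G)) * conj ((ζ : G → ℂ) (x * (y' : G))))).symm
      have e2 : ∑ i : principalBlock M ↥H, ((i : IrrCharacter H) : H → ℂ) y *
          conj (((i : IrrCharacter H) : H → ℂ) y') =
          ∑ ζ ∈ (Set.toFinite (principalBlock M ↥H)).toFinset,
            (ζ : H → ℂ) y * conj ((ζ : H → ℂ) y') := by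
        exact (Finset.sum_subtype (Set.toFinite (principalBlock M ↥H)).toFinset
          (fun ζ => Set.Finite.mem_toFinset _) (fun ζ : IrrCharacter H =>
            (ζ : H → ℂ) y * conj ((ζ : H → ℂ) y'))).symm
      rw [e1, e2]
      exact h
    · simp only [secMap_of_not hy', pReg_of_not hy', map_zero, mul_zero, Finset.sum_const_zero]
  · simp only [secMap_of_not hy, pReg_of_not hy, zero_mul, Finset.sum_const_zero]

/-! ### Transport -/

/-- Transport of the span of the principal block. -/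
theorem map_funLeft_charSpan {A : Type u} {B : Type v} [Group A] [Group B] (e : A ≃* B)
    (M : Ideal AlgInt) :
    (charSpan (principalBlock M A)).map (LinearMap.funLeft ℂ ℂ e.symm) =
      charSpan (principalBlock M B) := by
  rw [← H649.blkMap_principalBlock e]
  unfold charSpan H649.blkMap
  rw [Submodule.map_span, ← Set.image_comp, ← Set.image_comp]
  rfl

theorem comp_mem_charSpan {A : Type u} {B : Type v} [Group A] [Group B] (e : A ≃* B)
    {M : Ideal AlgInt} {θ : B → ℂ} (hθ : θ ∈ charSpan (principalBlock M B)) :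
    (fun a => θ (e a)) ∈ charSpan (principalBlock M A) := by
  rw [← map_funLeft_charSpan e.symm M]
  exact ⟨θ, hθ, rfl⟩

theorem isPRegular_equiv {A : Type u} {B : Type v} [Group A] [Group B] (e : A ≃* B) (p : ℕ) (a : A) :
    IsPRegular p (e a) ↔ IsPRegular p a := by
  unfold IsPRegular
  rw [MulEquiv.orderOf_eq]

theorem funLeft_pReg {A : Type u} {B : Type v} [Group A] [Group B] (e : A ≃* B) (p : ℕ) :
    (LinearMap.funLeft ℂ ℂ e.symm).comp (pReg p : (A → ℂ) →ₗ[ℂ] (A → ℂ)) =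
      (pReg p : (B → ℂ) →ₗ[ℂ] (B → ℂ)).comp (LinearMap.funLeft ℂ ℂ e.symm) := by
  apply LinearMap.ext
  intro θ
  funext b
  change pReg p θ (e.symm b) = pReg p (fun b => θ (e.symm b)) b
  by_cases h : IsPRegular p b
  · rw [pReg_of h, pReg_of ((isPRegular_equiv e.symm p b).2 h)]
  · rw [pReg_of_not h, pReg_of_not fun h' => h ((isPRegular_equiv e.symm p b).1 h')]

section

variable {Γ : Type u} [Group Γ]

theorem Br_eq (p : ℕ) (M : Ideal AlgInt) (N : Subgroup Γ) :
    Br p M N = (charSpan (principalBlock M ↥N)).map (pReg p) := by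
  unfold Br charSpan
  rw [Submodule.map_span, ← Set.image_comp]
  have : (fun χ : IrrCharacter ↥N => pRegularPart p (χ : ↥N → ℂ)) =
      (pReg p ∘ fun χ : IrrCharacter ↥N => (χ : ↥N → ℂ)) := by
    funext χ
    exact (pReg_eq p _).symm
  rw [this]

/-- The centralizer of `u` in `N`, in two ways. -/
def cenEquiv (N : Subgroup Γ) (x : ↥N) : ↥(Subgroup.centralizer ({x} : Set ↥N)) ≃*
    ↥(N ⊓ Subgroup.centralizer ({(x : Γ)} : Set Γ)) where
  toFun y := ⟨((y : ↥N) : Γ), (y : ↥N).2, by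
    have h := Subgroup.mem_centralizer_singleton_iff.1 y.2
    exact Subgroup.mem_centralizer_singleton_iff.2 (congrArg Subtype.val h)⟩
  invFun y := ⟨⟨y, y.2.1⟩, by
    have h := Subgroup.mem_centralizer_singleton_iff.1 y.2.2
    exact Subgroup.mem_centralizer_singleton_iff.2 (Subtype.ext h)⟩
  left_inv _ := rfl
  right_inv _ := rfl
  map_mul' _ _ := rfl

open Classical in
/-- `θ ↦ (y ↦ θ (x y))` on the `p`-regular elements of `C_N(x)`. -/
noncomputable def Phi (p : ℕ) (N : Subgroup Γ) (x : ↥N) :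
    (↥N → ℂ) →ₗ[ℂ] (↥(N ⊓ Subgroup.centralizer ({(x : Γ)} : Set Γ)) → ℂ) where
  toFun θ y := if IsPRegular p y then θ (x * ⟨y, y.2.1⟩) else 0
  map_add' θ θ' := by
    funext g
    by_cases h : IsPRegular p g <;> simp [h]
  map_smul' c θ := by
    funext g
    by_cases h : IsPRegular p g <;> simp [h]

theorem Phi_of {p : ℕ} {N : Subgroup Γ} {x : ↥N}
    {y : ↥(N ⊓ Subgroup.centralizer ({(x : Γ)} : Set Γ))} (h : IsPRegular p y) (θ : ↥N → ℂ) :
    Phi p N x θ y = θ (x * ⟨y, y.2.1⟩) := by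
  classical
  exact if_pos h

theorem Phi_of_not {p : ℕ} {N : Subgroup Γ} {x : ↥N}
    {y : ↥(N ⊓ Subgroup.centralizer ({(x : Γ)} : Set Γ))} (h : ¬ IsPRegular p y) (θ : ↥N → ℂ) :
    Phi p N x θ y = 0 := by
  classical
  exact if_neg h

theorem Phi_eq (p : ℕ) (N : Subgroup Γ) (x : ↥N) :
    Phi p N x = (LinearMap.funLeft ℂ ℂ (cenEquiv N x).symm).comp
      (secMap p x (Subgroup.centralizer ({x} : Set ↥N))) := by
  apply LinearMap.ext
  intro θ
  funext y
  change Phi p N x θ y = secMap p x (Subgroup.centralizer ({x} : Set ↥N)) θ ((cenEquiv N x).symm y)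
  by_cases h : IsPRegular p y
  · rw [Phi_of h, secMap_of ((isPRegular_equiv (cenEquiv N x).symm p y).2 h)]
    rfl
  · rw [Phi_of_not h, secMap_of_not fun h' => h ((isPRegular_equiv (cenEquiv N x).symm p y).1 h')]

variable [Finite Γ] {p : ℕ} [Fact p.Prime] {M : Ideal AlgInt}

theorem map_Phi (hM : IsPModular p M) (N : Subgroup Γ) (x : ↥N)
    (hx : ∃ k : ℕ, orderOf x = p ^ k) :
    (charSpan (principalBlock M ↥N)).map (Phi p N x) =
      Br p M (N ⊓ Subgroup.centralizer ({(x : Γ)} : Set Γ)) := by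
  rw [Phi_eq, Submodule.map_comp, map_secMap_eq hM hx rfl, ← Submodule.map_comp, funLeft_pReg,
    Submodule.map_comp, map_funLeft_charSpan, Br_eq]

/-! ### The action of `C` -/

/-- Conjugation by an element of `C`. -/
def cj {N C : Subgroup Γ} (hn : ∀ c ∈ C, ∀ x ∈ N, c * x * c⁻¹ ∈ N) (c : ↥C) : ↥N ≃* ↥N where
  toFun x := ⟨c * x * (c : Γ)⁻¹, hn c c.2 x x.2⟩
  invFun x := ⟨(c : Γ)⁻¹ * x * c, by simpa using hn _ (C.inv_mem c.2) x x.2⟩
  left_inv x := Subtype.ext (by simp only []; group)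
  right_inv x := Subtype.ext (by simp only []; group)
  map_mul' x y := Subtype.ext (by simp only [Subgroup.coe_mul]; group)

theorem cj_coe {N C : Subgroup Γ} (hn : ∀ c ∈ C, ∀ x ∈ N, c * x * c⁻¹ ∈ N) (c : ↥C) (x : ↥N) :
    ((cj hn c x : ↥N) : Γ) = c * x * (c : Γ)⁻¹ := rfl

theorem cj_mul {N C : Subgroup Γ} (hn : ∀ c ∈ C, ∀ x ∈ N, c * x * c⁻¹ ∈ N) (c d : ↥C) (x : ↥N) :
    cj hn (c * d) x = cj hn c (cj hn d x) :=
  Subtype.ext (by simp only [cj_coe, Subgroup.coe_mul]; group)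

/-- Invariance under `C`. -/
def IsInv {N : Subgroup Γ} (C : Subgroup Γ) (f : ↥N → ℂ) : Prop :=
  ∀ c ∈ C, ∀ x y : ↥N, (y : Γ) = c * x * c⁻¹ → f y = f x

theorem isInv_iff {N C : Subgroup Γ} (hn : ∀ c ∈ C, ∀ x ∈ N, c * x * c⁻¹ ∈ N) {f : ↥N → ℂ} :
    IsInv C f ↔ ∀ (c : ↥C) (x : ↥N), f (cj hn c x) = f x := by
  constructor
  · intro h c x
    exact h c c.2 x _ rfl
  · intro h c hc x y hxy
    have : y = cj hn ⟨c, hc⟩ x := Subtype.ext hxy
    rw [this]
    exact h _ _

/-- The `C`-invariant functions in the span of the principal block of `N`. -/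
def VC (M : Ideal AlgInt) (N C : Subgroup Γ) : Submodule ℂ (↥N → ℂ) where
  carrier := {f | f ∈ charSpan (principalBlock M ↥N) ∧ IsInv C f}
  add_mem' := fun {a b} ha hb =>
    ⟨(charSpan (principalBlock M ↥N)).add_mem ha.1 hb.1, fun c hc x y h => by
      simp only [Pi.add_apply]; rw [ha.2 c hc x y h, hb.2 c hc x y h]⟩
  zero_mem' := ⟨(charSpan (principalBlock M ↥N)).zero_mem, fun _ _ _ _ _ => rfl⟩
  smul_mem' := fun r {a} ha =>
    ⟨(charSpan (principalBlock M ↥N)).smul_mem r ha.1, fun c hc x y h => by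
      simp only [Pi.smul_apply]; rw [ha.2 c hc x y h]⟩

theorem mem_VC {N C : Subgroup Γ} {f : ↥N → ℂ} :
    f ∈ VC M N C ↔ f ∈ charSpan (principalBlock M ↥N) ∧ IsInv C f := Iff.rfl

theorem mem_Inv {N C : Subgroup Γ} {f : ↥N → ℂ} :
    f ∈ Inv p M N C ↔ f ∈ Br p M N ∧ IsInv C f := Iff.rfl

/-- The relation whose classes are the orbits. -/
def Rel (M : Ideal AlgInt) (N C : Subgroup Γ) (θ θ' : ↥(principalBlock M ↥N)) : Prop :=
  ∃ c ∈ C, ∀ x y : ↥N, (y : Γ) = c * x * c⁻¹ →
    ((θ' : IrrCharacter ↥N) : ↥N → ℂ) y = ((θ : IrrCharacter ↥N) : ↥N → ℂ) x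

theorem orb_def (M : Ideal AlgInt) (N C : Subgroup Γ) : orb M N C = Nat.card (Quot (Rel M N C)) := rfl

/-- The permutation `θ ↦ θ ∘ c` of the principal block. -/
def sg {N C : Subgroup Γ} (hn : ∀ c ∈ C, ∀ x ∈ N, c * x * c⁻¹ ∈ N) (M : Ideal AlgInt) (c : ↥C) :
    ↥(principalBlock M ↥N) ≃ ↥(principalBlock M ↥N) :=
  (H649.irrEquiv (cj hn c).symm).subtypeEquiv fun χ => by
    rw [H649.irrEquiv_apply]
    conv_rhs => rw [← H649.blkMap_principalBlock (cj hn c).symm]
    exact H649.irrMap_mem_blkMap.symm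

theorem sg_apply {N C : Subgroup Γ} (hn : ∀ c ∈ C, ∀ x ∈ N, c * x * c⁻¹ ∈ N) (c : ↥C)
    (θ : ↥(principalBlock M ↥N)) (x : ↥N) :
    (((sg hn M c θ : ↥(principalBlock M ↥N)) : IrrCharacter ↥N) : ↥N → ℂ) x =
      ((θ : IrrCharacter ↥N) : ↥N → ℂ) (cj hn c x) := rfl

theorem rel_sg {N C : Subgroup Γ} (hn : ∀ c ∈ C, ∀ x ∈ N, c * x * c⁻¹ ∈ N) (c : ↥C)
    (θ : ↥(principalBlock M ↥N)) : Rel M N C (sg hn M c θ) θ := by
  refine ⟨c, c.2, fun x y hxy => ?_⟩
  have : y = cj hn c x := Subtype.ext hxy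
  rw [sg_apply, this]

theorem sg_of_rel {N C : Subgroup Γ} (hn : ∀ c ∈ C, ∀ x ∈ N, c * x * c⁻¹ ∈ N)
    {θ θ' : ↥(principalBlock M ↥N)} (h : Rel M N C θ θ') : ∃ c : ↥C, sg hn M c θ' = θ := by
  obtain ⟨c, hc, h⟩ := h
  refine ⟨⟨c, hc⟩, Subtype.ext (Subtype.ext (funext fun x => ?_))⟩
  rw [sg_apply]
  exact h x _ rfl

/-- The dimension of the invariants is the number of orbits. -/
theorem finrank_VC (N C : Subgroup Γ) (hn : ∀ c ∈ C, ∀ x ∈ N, c * x * c⁻¹ ∈ N) :
    finrank ℂ ↥(VC M N C) = orb M N C := by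
  classical
  have := Characters.Core.finite_irr (G := ↥N)
  have : Fintype ↥(principalBlock M ↥N) := Fintype.ofFinite _
  have : Finite (Quot (Rel M N C)) := Quot.finite _
  have : Fintype (Quot (Rel M N C)) := Fintype.ofFinite _
  have hli : LinearIndependent ℂ
      (fun χ : ↥(principalBlock M ↥N) => ((χ : IrrCharacter ↥N) : ↥N → ℂ)) :=
    (Characters.Core.irr_linearIndependent (G := ↥N)).comp _ Subtype.val_injective
  rw [Fintype.linearIndependent_iff] at hli
  have hspan : charSpan (principalBlock M ↥N) =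
      Submodule.span ℂ (Set.range fun χ : ↥(principalBlock M ↥N) =>
        ((χ : IrrCharacter ↥N) : ↥N → ℂ)) := by
    unfold charSpan
    congr 1
    ext θ
    simp
  let T : (Quot (Rel M N C) → ℂ) →ₗ[ℂ] (↥N → ℂ) :=
    { toFun := fun b => ∑ θ : ↥(principalBlock M ↥N),
        b (Quot.mk _ θ) • ((θ : IrrCharacter ↥N) : ↥N → ℂ)
      map_add' := fun b b' => by
        simp only [Pi.add_apply, add_smul, Finset.sum_add_distrib]
      map_smul' := fun r b => by
        simp only [Pi.smul_apply, smul_assoc, Finset.smul_sum, RingHom.id_apply] }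
  have hT : ∀ b, T b = ∑ θ : ↥(principalBlock M ↥N),
      b (Quot.mk _ θ) • ((θ : IrrCharacter ↥N) : ↥N → ℂ) := fun b => rfl
  have hinj : Function.Injective T := by
    rw [injective_iff_map_eq_zero]
    intro b hb
    have h1 := hli (fun θ => b (Quot.mk _ θ)) hb
    funext q
    induction q using Quot.ind with
    | mk θ => exact h1 θ
  have hrange : LinearMap.range T = VC M N C := by
    apply le_antisymm
    · rintro _ ⟨b, rfl⟩
      refine mem_VC.2 ⟨?_, ?_⟩
      · rw [hT]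
        exact Submodule.sum_mem _ fun θ _ => Submodule.smul_mem _ _
          (Submodule.subset_span ⟨_, θ.2, rfl⟩)
      · rw [isInv_iff hn]
        intro c x
        rw [hT, Finset.sum_apply, Finset.sum_apply]
        conv_rhs => rw [← Equiv.sum_comp (sg hn M c)]
        refine Finset.sum_congr rfl fun θ _ => ?_
        rw [Pi.smul_apply, Pi.smul_apply, sg_apply, Quot.sound (rel_sg hn c θ)]
    · intro f hf
      obtain ⟨hf1, hf2⟩ := mem_VC.1 hf
      rw [isInv_iff hn] at hf2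
      rw [hspan, Submodule.mem_span_range_iff_exists_fun] at hf1
      obtain ⟨a, ha⟩ := hf1
      have hinv : ∀ (c : ↥C) (θ : ↥(principalBlock M ↥N)), a (sg hn M c θ) = a θ := by
        intro c θ
        have h1 : ∑ θ : ↥(principalBlock M ↥N), (a (sg hn M c θ) - a θ) •
            (((sg hn M c θ : ↥(principalBlock M ↥N)) : IrrCharacter ↥N) : ↥N → ℂ) = 0 := by
          have h2 : ∑ θ : ↥(principalBlock M ↥N), a (sg hn M c θ) •
            (((sg hn M c θ : ↥(principalBlock M ↥N)) : IrrCharacter ↥N) : ↥N → ℂ) = f := by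
            rw [← ha]
            exact Equiv.sum_comp (sg hn M c) (fun θ => a θ • ((θ : IrrCharacter ↥N) : ↥N → ℂ))
          have h3 : ∑ θ : ↥(principalBlock M ↥N), a θ •
            (((sg hn M c θ : ↥(principalBlock M ↥N)) : IrrCharacter ↥N) : ↥N → ℂ) = f := by
            funext x
            rw [← hf2 c x, ← ha, Finset.sum_apply, Finset.sum_apply]
            refine Finset.sum_congr rfl fun θ _ => ?_
            rw [Pi.smul_apply, Pi.smul_apply, sg_apply]
          simp only [sub_smul, Finset.sum_sub_distrib]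
          rw [h2, h3, sub_self]
        have h4 := (Equiv.sum_comp (sg hn M c) (fun θ : ↥(principalBlock M ↥N) =>
          (a θ - a ((sg hn M c).symm θ)) • ((θ : IrrCharacter ↥N) : ↥N → ℂ)))
        simp only [Equiv.symm_apply_apply] at h4
        rw [h1] at h4
        have h5 := hli _ h4.symm (sg hn M c θ)
        simp only [Equiv.symm_apply_apply] at h5
        exact sub_eq_zero.1 h5
      refine ⟨Quot.lift a ?_, ?_⟩
      · intro θ θ' h
        obtain ⟨c, hc⟩ := sg_of_rel hn h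
        rw [← hc, hinv]
      · rw [hT, ← ha]
  rw [← hrange, LinearMap.finrank_range_of_inj hinj, Module.finrank_fintype_fun_eq_card, orb_def,
    Nat.card_eq_fintype_card]

/-! ### The maps `Phi` and invariance -/

theorem isPRegular_coe {H : Subgroup Γ} {y : ↥H} : IsPRegular p (y : Γ) ↔ IsPRegular p y := by
  unfold IsPRegular
  rw [Subgroup.orderOf_coe]

theorem isPRegular_of_conj {H : Subgroup Γ} {c : Γ} {x y : ↥H} (h : (y : Γ) = c * x * c⁻¹) :
    IsPRegular p y ↔ IsPRegular p x := by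
  rw [← isPRegular_coe, ← isPRegular_coe, h]
  exact isPRegular_equiv (MulAut.conj c) p (x : Γ)

theorem Phi_inv {N C : Subgroup Γ} (x : ↥N) {f : ↥N → ℂ} (hf : IsInv C f) :
    IsInv (C ⊓ Subgroup.centralizer ({(x : Γ)} : Set Γ)) (Phi p N x f) := by
  intro c hc y z hyz
  by_cases hy : IsPRegular p y
  · have hz : IsPRegular p z := (isPRegular_of_conj hyz).2 hy
    rw [Phi_of hy, Phi_of hz]
    refine hf c hc.1 _ _ ?_
    have h1 := Subgroup.mem_centralizer_singleton_iff.1 hc.2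
    change (x : Γ) * (z : Γ) = c * (x * (y : Γ)) * c⁻¹
    rw [hyz]
    calc (x : Γ) * (c * y * c⁻¹) = x * c * y * c⁻¹ := by group
      _ = c * x * y * c⁻¹ := by rw [h1]
      _ = c * (x * y) * c⁻¹ := by group
  · have hz : ¬ IsPRegular p z := fun h => hy ((isPRegular_of_conj hyz).1 h)
    rw [Phi_of_not hy, Phi_of_not hz]

theorem Phi_mem_Inv (hM : IsPModular p M) {N C : Subgroup Γ} (x : ↥N)
    (hx : ∃ k : ℕ, orderOf x = p ^ k) {f : ↥N → ℂ} (hf : f ∈ VC M N C) :
    Phi p N x f ∈ Inv p M (N ⊓ Subgroup.centralizer ({(x : Γ)} : Set Γ))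
      (C ⊓ Subgroup.centralizer ({(x : Γ)} : Set Γ)) :=
  mem_Inv.2 ⟨by rw [← map_Phi hM N x hx]; exact ⟨f, hf.1, rfl⟩, Phi_inv x hf.2⟩

/-- **Lifting an invariant function**: `η` on `C_N(x)` is the restriction of a `C`-invariant function in
the span of the principal block of `N`, vanishing outside the `C`-section of `x`. -/
theorem exists_lift (hM : IsPModular p M) {N C : Subgroup Γ} (hNC : N ≤ C)
    (hn : ∀ c ∈ C, ∀ x ∈ N, c * x * c⁻¹ ∈ N) (x : ↥N) (hx : ∃ k : ℕ, orderOf x = p ^ k)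
    {η : ↥(N ⊓ Subgroup.centralizer ({(x : Γ)} : Set Γ)) → ℂ}
    (hη : η ∈ Inv p M (N ⊓ Subgroup.centralizer ({(x : Γ)} : Set Γ))
      (C ⊓ Subgroup.centralizer ({(x : Γ)} : Set Γ))) :
    ∃ f ∈ VC M N C, Phi p N x f = η ∧ ∀ v : ↥N, (∃ k : ℕ, orderOf v = p ^ k) →
      (∀ c ∈ C, c * x * c⁻¹ ≠ (v : Γ)) → Phi p N v f = 0 := by
  classical
  have : Fintype ↥C := Fintype.ofFinite _
  obtain ⟨hη1, hη2⟩ := mem_Inv.1 hη
  rw [← map_Phi hM N x hx] at hη1
  obtain ⟨θ₀, hθ₀, hθη⟩ := hη1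
  have hMp := isPrime_of_isPModular hM
  have hcut : cut p x θ₀ ∈ charSpan (principalBlock M ↥N) :=
    cut_mem hM (isUnion_of_isPBlock Blocks.PrincipalSection.isPBlock_principalBlock) x hθ₀
  have hcl := charSpan_isClassFunction hθ₀
  set F : ↥N → ℂ := ∑ c : ↥C, fun y => cut p x θ₀ (cj hn c y) with hF
  have hFV : F ∈ charSpan (principalBlock M ↥N) :=
    Submodule.sum_mem _ fun c _ => comp_mem_charSpan (cj hn c) hcut
  have hFap : ∀ y, F y = ∑ c : ↥C, cut p x θ₀ (cj hn c y) := fun y => by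
    rw [hF, Finset.sum_apply]
  have hFinv : IsInv C F := by
    rw [isInv_iff hn]
    intro d y
    rw [hFap, hFap, ← Equiv.sum_comp (Equiv.mulRight d) (fun c => cut p x θ₀ (cj hn c y))]
    refine Finset.sum_congr rfl fun c _ => ?_
    rw [Equiv.coe_mulRight, cj_mul]
  have hFVC : F ∈ VC M N C := mem_VC.2 ⟨hFV, hFinv⟩
  -- values
  have hval : ∀ (v : ↥N) (_ : ∃ k : ℕ, orderOf v = p ^ k)
      (y : ↥(N ⊓ Subgroup.centralizer ({(v : Γ)} : Set Γ))) (_ : IsPRegular p y) (c : ↥C),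
      (InSection p x (cj hn c (v * ⟨y, y.2.1⟩)) ↔ IsConj x (cj hn c v)) := by
    intro v hv y hy c
    rw [map_mul]
    have h1 : Commute v (⟨y, y.2.1⟩ : ↥N) := by
      have := Subgroup.mem_centralizer_singleton_iff.1 y.2.2
      exact Subtype.ext this.symm
    have h2 : ¬ p ∣ orderOf (cj hn c (⟨y, y.2.1⟩ : ↥N)) := by
      rw [MulEquiv.orderOf_eq, ← Subgroup.orderOf_coe]
      have h3 := hy
      unfold IsPRegular at h3
      rwa [← Subgroup.orderOf_coe] at h3
    refine inSection_mul_iff ?_ (h1.map (cj hn c)) h2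
    rw [MulEquiv.orderOf_eq]
    exact hv
  have hzero : ∀ v : ↥N, (∃ k : ℕ, orderOf v = p ^ k) →
      (∀ c ∈ C, c * x * c⁻¹ ≠ (v : Γ)) → Phi p N v F = 0 := by
    intro v hv hne
    funext y
    by_cases hy : IsPRegular p y
    · rw [Phi_of hy, hFap, Pi.zero_apply]
      refine Finset.sum_eq_zero fun c _ => ?_
      rw [cut_of_not]
      rw [hval v hv y hy c]
      intro hcon
      obtain ⟨n, hnn⟩ := isConj_iff.1 hcon
      have h1 : (n : Γ) * x * (n : Γ)⁻¹ = c * v * (c : Γ)⁻¹ := congrArg Subtype.val hnn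
      refine hne ((c : Γ)⁻¹ * n) (C.mul_mem (C.inv_mem c.2) (hNC n.2)) ?_
      calc (c : Γ)⁻¹ * n * x * ((c : Γ)⁻¹ * n)⁻¹ = (c : Γ)⁻¹ * (n * x * (n : Γ)⁻¹) * c := by group
        _ = v := by rw [h1]; group
    · rw [Phi_of_not hy, Pi.zero_apply]
  set m : ℕ := (Finset.univ.filter fun c : ↥C => IsConj x (cj hn c x)).card with hm
  have hm0 : (m : ℂ) ≠ 0 := by
    rw [Nat.cast_ne_zero, hm, Finset.card_ne_zero]
    refine ⟨1, Finset.mem_filter.2 ⟨Finset.mem_univ _, ?_⟩⟩
    have : cj hn 1 x = x := Subtype.ext (by rw [cj_coe]; simp)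
    rw [this]
  have hone : Phi p N x F = (m : ℂ) • η := by
    funext y
    rw [Pi.smul_apply, ← hθη]
    by_cases hy : IsPRegular p y
    · rw [Phi_of hy, hFap]
      have h1 : ∀ c : ↥C, cut p x θ₀ (cj hn c (x * ⟨y, y.2.1⟩)) =
          if IsConj x (cj hn c x) then Phi p N x θ₀ y else 0 := by
        intro c
        by_cases hc : IsConj x (cj hn c x)
        · rw [if_pos hc, cut_of ((hval x hx y hy c).2 hc)]
          obtain ⟨n, hnn⟩ := isConj_iff.1 hc
          have h2 : (n : Γ) * x * (n : Γ)⁻¹ = c * x * (c : Γ)⁻¹ := congrArg Subtype.val hnn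
          -- the element `n⁻¹ c` centralizes `x`
          have hd : (n : Γ)⁻¹ * c ∈ C ⊓ Subgroup.centralizer ({(x : Γ)} : Set Γ) := by
            refine ⟨C.mul_mem (C.inv_mem (hNC n.2)) c.2, ?_⟩
            refine Subgroup.mem_centralizer_singleton_iff.2 ?_
            calc (n : Γ)⁻¹ * c * x = (n : Γ)⁻¹ * (c * x * (c : Γ)⁻¹) * c := by group
              _ = (n : Γ)⁻¹ * (n * x * (n : Γ)⁻¹) * c := by rw [h2]
              _ = x * ((n : Γ)⁻¹ * c) := by group
          have hyd : (n : Γ)⁻¹ * c * y * ((n : Γ)⁻¹ * c)⁻¹ ∈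
              N ⊓ Subgroup.centralizer ({(x : Γ)} : Set Γ) :=
            ⟨hn _ hd.1 _ y.2.1, Subgroup.mul_mem _ (Subgroup.mul_mem _ hd.2 y.2.2)
              (Subgroup.inv_mem _ hd.2)⟩
          have h3 := hη2 _ hd y ⟨_, hyd⟩ rfl
          rw [← hθη] at h3
          rw [← h3, Phi_of ((isPRegular_of_conj (c := (n : Γ)⁻¹ * c) rfl).2 hy), ← hcl _ n⁻¹]
          congr 1
          apply Subtype.ext
          have h4 := Subgroup.mem_centralizer_singleton_iff.1 hd.2
          change (n : Γ)⁻¹ * ((c : Γ) * ((x : Γ) * (y : Γ)) * (c : Γ)⁻¹) * ((n : Γ)⁻¹)⁻¹ =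
            (x : Γ) * ((n : Γ)⁻¹ * c * y * ((n : Γ)⁻¹ * c)⁻¹)
          calc (n : Γ)⁻¹ * ((c : Γ) * ((x : Γ) * (y : Γ)) * (c : Γ)⁻¹) * ((n : Γ)⁻¹)⁻¹ =
                ((n : Γ)⁻¹ * c * x) * y * ((n : Γ)⁻¹ * c)⁻¹ := by group
            _ = ((x : Γ) * ((n : Γ)⁻¹ * c)) * y * ((n : Γ)⁻¹ * c)⁻¹ := by rw [h4]
            _ = _ := by group
        · rw [if_neg hc, cut_of_not fun h => hc ((hval x hx y hy c).1 h)]
      rw [Finset.sum_congr rfl fun c _ => h1 c, ← Finset.sum_filter, Finset.sum_const, ← hm,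
        nsmul_eq_mul, smul_eq_mul]
    · rw [Phi_of_not hy, Phi_of_not hy, smul_zero]
  refine ⟨(m : ℂ)⁻¹ • F, Submodule.smul_mem _ _ hFVC, ?_, ?_⟩
  · rw [map_smul, hone, smul_smul, inv_mul_cancel₀ hm0, one_smul]
  · intro v hv hne
    rw [map_smul, hzero v hv hne, smul_zero]

section family

variable (hM : IsPModular p M) (N C : Subgroup Γ) {ι : Type} [Fintype ι] (u : ι → Γ)
  (hu : ∀ i, u i ∈ N ∧ ∃ k : ℕ, orderOf (u i) = p ^ k)

/-- The product of the maps `Phi`. -/
noncomputable def bigPhi : ↥(VC M N C) →ₗ[ℂ]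
    (∀ i, ↥(Inv p M (N ⊓ Subgroup.centralizer {u i}) (C ⊓ Subgroup.centralizer {u i}))) :=
  LinearMap.pi fun i => (Phi p N ⟨u i, (hu i).1⟩).restrict fun _ hf =>
    Phi_mem_Inv hM (⟨u i, (hu i).1⟩ : ↥N) (by
      obtain ⟨k, hk⟩ := (hu i).2
      exact ⟨k, by rw [← hk, Subgroup.orderOf_mk]⟩) hf

theorem bigPhi_apply (f : ↥(VC M N C)) (i : ι) :
    ((bigPhi hM N C u hu f i : ↥(Inv p M (N ⊓ Subgroup.centralizer {u i})
      (C ⊓ Subgroup.centralizer {u i}))) : _ → ℂ) = Phi p N ⟨u i, (hu i).1⟩ (f : ↥N → ℂ) := rfl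

include hM in
theorem bigPhi_surjective (hNC : N ≤ C) (hn : ∀ c ∈ C, ∀ x ∈ N, c * x * c⁻¹ ∈ N)
    (hsep : ∀ i j, (∃ c ∈ C, c * u i * c⁻¹ = u j) → i = j) :
    Function.Surjective (bigPhi hM N C u hu) := by
  classical
  intro η
  have hord : ∀ i, ∃ k : ℕ, orderOf (⟨u i, (hu i).1⟩ : ↥N) = p ^ k := fun i => by
    obtain ⟨k, hk⟩ := (hu i).2
    exact ⟨k, by rw [← hk, Subgroup.orderOf_mk]⟩
  have hex : ∀ i, ∃ f ∈ VC M N C, Phi p N ⟨u i, (hu i).1⟩ f = (η i : _ → ℂ) ∧
      ∀ v : ↥N, (∃ k : ℕ, orderOf v = p ^ k) →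
        (∀ c ∈ C, c * u i * c⁻¹ ≠ (v : Γ)) → Phi p N v f = 0 := fun i =>
    exists_lift hM hNC hn ⟨u i, (hu i).1⟩ (hord i) (η i).2
  choose f hfV hf1 hf2 using hex
  refine ⟨⟨∑ i, f i, Submodule.sum_mem _ fun i _ => hfV i⟩, ?_⟩
  funext j
  apply Subtype.ext
  rw [bigPhi_apply]
  change Phi p N ⟨u j, (hu j).1⟩ (∑ i, f i) = _
  rw [map_sum, ← hf1 j]
  refine Finset.sum_eq_single j ?_ (fun h => absurd (Finset.mem_univ _) h)
  intro i _ hij
  refine hf2 i ⟨u j, (hu j).1⟩ (hord j) ?_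
  intro c hc h
  exact hij (hsep i j ⟨c, hc, h⟩)

include hM in
theorem bigPhi_injective (hn : ∀ c ∈ C, ∀ x ∈ N, c * x * c⁻¹ ∈ N)
    (hcov : ∀ g ∈ N, (∃ k : ℕ, orderOf g = p ^ k) → ∃ i, ∃ c ∈ C, c * u i * c⁻¹ = g) :
    Function.Injective (bigPhi hM N C u hu) := by
  rw [injective_iff_map_eq_zero]
  intro f hf
  apply Subtype.ext
  funext g
  obtain ⟨z, hz⟩ := Blocks.PPart.exists_isPPart p g
  obtain ⟨y, hzy, hcomm, ⟨k, hk⟩, hyreg⟩ := hz
  obtain ⟨i, c, hc, hcz⟩ := hcov z z.2 ⟨k, by rw [Subgroup.orderOf_coe]; exact hk⟩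
  have hinv := f.2.2
  have hcomm' : (z : Γ) * y = y * z := congrArg Subtype.val hcomm.eq
  have hyc : c⁻¹ * (y : Γ) * c ∈ N ⊓ Subgroup.centralizer {u i} := by
    refine ⟨by simpa using hn _ (C.inv_mem hc) y y.2, ?_⟩
    refine Subgroup.mem_centralizer_singleton_iff.2 ?_
    have h1 : u i = c⁻¹ * z * c := by rw [← hcz]; group
    rw [h1]
    calc c⁻¹ * (y : Γ) * c * (c⁻¹ * z * c) = c⁻¹ * (y * z) * c := by group
      _ = c⁻¹ * (z * y) * c := by rw [hcomm']
      _ = c⁻¹ * z * c * (c⁻¹ * y * c) := by group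
  have hreg : IsPRegular p (⟨c⁻¹ * (y : Γ) * c, hyc⟩ :
      ↥(N ⊓ Subgroup.centralizer {u i})) := by
    rw [← isPRegular_coe]
    have h1 : c⁻¹ * (y : Γ) * c = MulAut.conj c⁻¹ (y : Γ) := by simp
    change IsPRegular p (c⁻¹ * (y : Γ) * c)
    rw [h1]
    refine (isPRegular_equiv (MulAut.conj c⁻¹) p (y : Γ)).2 ?_
    rw [isPRegular_coe]
    exact hyreg
  have h1 : Phi p N ⟨u i, (hu i).1⟩ (f : ↥N → ℂ) ⟨c⁻¹ * (y : Γ) * c, hyc⟩ = 0 := by
    rw [← bigPhi_apply hM N C u hu f i, hf]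
    rfl
  rw [Phi_of hreg] at h1
  change (f : ↥N → ℂ) g = 0
  rw [← h1]
  refine hinv c hc _ _ ?_
  change (g : Γ) = c * (u i * (c⁻¹ * (y : Γ) * c)) * c⁻¹
  rw [← hzy, Subgroup.coe_mul, ← hcz]
  group

end family

/-- **The number of `C`-orbits on `Irr(B₀(N))` as a sum over `p`-sections.** -/
theorem orb_eq_sum (hM : IsPModular p M) (N C : Subgroup Γ) (hNC : N ≤ C)
    (hn : ∀ c ∈ C, ∀ x ∈ N, c * x * c⁻¹ ∈ N) {ι : Type} [Fintype ι] (u : ι → Γ)
    (hu : ∀ i, u i ∈ N ∧ ∃ k : ℕ, orderOf (u i) = p ^ k)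
    (hcov : ∀ g ∈ N, (∃ k : ℕ, orderOf g = p ^ k) → ∃! i, ∃ c ∈ C, c * u i * c⁻¹ = g) :
    orb M N C = ∑ i, eps p M (N ⊓ Subgroup.centralizer {u i}) (C ⊓ Subgroup.centralizer {u i}) := by
  have hsep : ∀ i j, (∃ c ∈ C, c * u i * c⁻¹ = u j) → i = j := by
    intro i j h
    obtain ⟨i₀, -, huniq⟩ := hcov (u j) (hu j).1 (hu j).2
    exact (huniq i h).trans (huniq j ⟨1, C.one_mem, by group⟩).symm
  have e := LinearEquiv.ofBijective (bigPhi hM N C u hu)
    ⟨bigPhi_injective hM N C u hu hn fun g hg hk => (hcov g hg hk).exists,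
      bigPhi_surjective hM N C u hu hNC hn hsep⟩
  rw [← finrank_VC N C hn, e.finrank_eq, Module.finrank_pi_fintype]
  rfl

/-- **The inequality for a partial system of representatives.** -/
theorem sum_le_orb (hM : IsPModular p M) (N C : Subgroup Γ) (hNC : N ≤ C)
    (hn : ∀ c ∈ C, ∀ x ∈ N, c * x * c⁻¹ ∈ N) {ι : Type} [Fintype ι] (u : ι → Γ)
    (hu : ∀ i, u i ∈ N ∧ ∃ k : ℕ, orderOf (u i) = p ^ k)
    (hsep : ∀ i j, (∃ c ∈ C, c * u i * c⁻¹ = u j) → i = j) :
    ∑ i, eps p M (N ⊓ Subgroup.centralizer {u i}) (C ⊓ Subgroup.centralizer {u i}) ≤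
      orb M N C := by
  have h1 := LinearMap.finrank_le_finrank_of_surjective (bigPhi_surjective hM N C u hu hNC hn hsep)
  rw [← finrank_VC N C hn]
  rw [Module.finrank_pi_fintype] at h1
  exact h1

end

end Cfsg.Agent.H208.Pb
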